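import Groth.Agent.CohenLib.Structure
import Groth.Agent.CohenLib.PowerSeries
import Groth.Agent.Cohen4.Lift
import Groth.Agent.Cohen4.RegHom

/-!
# Cohen factorisations of local homomorphisms
-/

set_option autoImplicit false

universe u

open IsLocalRing

namespace Groth.Agent.H1CohenFac

variable {A : Type u} [CommRing A] [IsLocalRing A]

/-- Coefficient ring data. -/
theorem exists_coeff (A : Type u) [CommRing A] [IsLocalRing A] [IsAdicComplete (maximalIdeal A) A] :
    ∃ (Λ : Type u) (_ : CommRing Λ) (_ : IsLocalRing Λ) (σ : Λ →+* A),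
      ((IsField Λ ∧ CharZero (ResidueField A)) ∨ (CAlg.IsCohenRing Λ ∧ ¬ CharZero (ResidueField A))) ∧
        (maximalIdeal Λ).map σ ≤ maximalIdeal A ∧ Function.Surjective ((residue A).comp σ) := by
  obtain ⟨Λ, _, σ, hΛ, hσ⟩ := CohenLib.exists_coeff_ring A
  rcases hΛ with ⟨hF, hu⟩ | hC
  · letI := hF.toField
    refine ⟨Λ, inferInstance, inferInstance, σ, Or.inl ⟨hF, ?_⟩, ?_, hσ⟩
    · obtain ⟨p, hp⟩ := CharP.exists (ResidueField A)
      rcases CharP.char_is_prime_or_zero (ResidueField A) p with hpp | hp0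
      · exfalso
        have h1 := (hu p hpp).map (residue A)
        rw [map_natCast, CharP.cast_eq_zero] at h1
        exact not_isUnit_zero h1
      · subst hp0; exact CharP.charP_to_charZero _
    · rw [IsLocalRing.isField_iff_maximalIdeal_eq.1 hF, Ideal.map_bot]; exact bot_le
  · obtain ⟨i1, i2, hc, p, hp, hm⟩ := hC
    have hp0 : (p : A) ∈ maximalIdeal A := by
      let g : Λ →+* ResidueField A := (residue A).comp σ
      have hk : RingHom.ker g = maximalIdeal Λ := IsLocalRing.eq_maximalIdeal (RingHom.ker_isMaximal_of_surjective g hσ)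
      have : (p : Λ) ∈ RingHom.ker g := hk ▸ hm ▸ Ideal.mem_span_singleton_self _
      rw [RingHom.mem_ker, map_natCast] at this
      rw [← residue_eq_zero_iff, map_natCast]
      exact this
    refine ⟨Λ, inferInstance, inferInstance, σ, Or.inr ⟨⟨i1, i2, hc, p, hp, hm⟩, fun h0 => ?_⟩, ?_, hσ⟩
    · rw [← residue_eq_zero_iff, map_natCast] at hp0
      exact hp.ne_zero (Nat.cast_eq_zero.1 hp0)
    · rw [hm, Ideal.map_span, Ideal.span_le]
      rintro _ ⟨_, rfl, rfl⟩
      rw [map_natCast]
      exact hp0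

/-- The dimension of a power series ring over a field or a Cohen ring. -/
theorem dim_mvPowerSeries {Λ : Type u} [CommRing Λ] [IsLocalRing Λ] (hΛ : IsField Λ ∨ CAlg.IsCohenRing Λ) :
    ∃ e : ℕ, ∀ n : ℕ, ringKrullDim (MvPowerSeries (Fin n) Λ) = (n + e : ℕ) ∧
      (IsField Λ → e = 0) ∧ (¬ IsField Λ → e = 1) := by
  rcases hΛ with hF | hC
  · refine ⟨0, fun n => ⟨?_, fun _ => rfl, fun h => absurd hF h⟩⟩
    letI := hF.toField
    rw [PSLib.ringKrullDim_eq]
    simp
  · obtain ⟨i1, i2, hc, p, hp, hm⟩ := hC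
    have hnF : ¬ IsField Λ := IsDiscreteValuationRing.not_isField Λ
    refine ⟨1, fun n => ⟨?_, fun h => absurd h hnF, fun _ => rfl⟩⟩
    have hspan : (maximalIdeal Λ).spanFinrank ≤ 1 := by
      rw [hm]
      refine (Submodule.spanFinrank_span_le_ncard_of_finite (Set.finite_singleton _)).trans ?_
      simp
    refine le_antisymm (CohenLib.isLocalRing_mvPowerSeries_dim_le (Λ := Λ) n 1 hspan) ?_
    have hsurj : Function.Surjective (MvPowerSeries.map (σ := Fin n) (residue Λ)) := by
      intro g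
      choose c hc using fun d => residue_surjective (MvPowerSeries.coeff d g)
      exact ⟨c, MvPowerSeries.ext fun d => by rw [MvPowerSeries.coeff_map]; exact hc d⟩
    have : IsDomain (MvPowerSeries (Fin n) Λ) := NoZeroDivisors.to_isDomain _
    have hp0 : (MvPowerSeries.C (σ := Fin n) (p : Λ)) ≠ 0 := fun h => by
      have h1 := congrArg MvPowerSeries.constantCoeff h
      rw [MvPowerSeries.constantCoeff_C, map_zero] at h1
      exact IsDiscreteValuationRing.not_a_field Λ (by rw [hm, h1]; exact Ideal.span_singleton_eq_bot.2 rfl)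
    have h1 := ringKrullDim_succ_le_of_surjective (MvPowerSeries.map (σ := Fin n) (residue Λ)) hsurj
      (mem_nonZeroDivisors_of_ne_zero hp0) (by
        rw [MvPowerSeries.map_C, (residue_eq_zero_iff _).2 (hm ▸ Ideal.mem_span_singleton_self _), map_zero])
    rw [PSLib.ringKrullDim_eq] at h1
    exact_mod_cast h1

theorem main {A B : Type u} [CommRing A] [CommRing B]
    [IsLocalRing A] [IsLocalRing B] [IsNoetherianRing A] [IsNoetherianRing B]
    [IsAdicComplete (maximalIdeal A) A] [IsAdicComplete (maximalIdeal B) B]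
    [Algebra A B] [IsLocalHom (algebraMap A B)] :
    ∃ (Λ Λ' : Type u) (_ : CommRing Λ) (_ : CommRing Λ') (_ : IsLocalRing Λ) (n m : ℕ)
      (ρ : MvPowerSeries (Fin n) Λ →+* A) (σ : MvPowerSeries (Fin m) Λ' →+* B)
      (τ : MvPowerSeries (Fin n) Λ →+* MvPowerSeries (Fin m) Λ'),
      ((CharZero (ResidueField A) ∧ IsField Λ ∧ IsField Λ') ∨
        (¬ CharZero (ResidueField A) ∧ CAlg.IsCohenRing Λ ∧ CAlg.IsCohenRing Λ')) ∧
        Function.Surjective ρ ∧ Function.Surjective σ ∧ σ.comp τ = (algebraMap A B).comp ρ ∧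
        τ.Flat ∧ IsRegularRing (MvPowerSeries (Fin m) Λ' ⧸
          (maximalIdeal (MvPowerSeries (Fin n) Λ)).map τ) := by
  classical
  obtain ⟨Λ, _, _, σA, hΛ, hσA, hσA'⟩ := exists_coeff A
  obtain ⟨Λ', _, _, σB, hΛ', hσB, hσB'⟩ := exists_coeff B
  have hiff : CharZero (ResidueField A) ↔ CharZero (ResidueField B) := by
    have hinj := (ResidueField.map (algebraMap A B)).injective
    constructor
    · intro h
      exact charZero_of_injective_ringHom hinj
    · intro h
      exact RingHom.charZero (ResidueField.map (algebraMap A B))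
  have hcase : (CharZero (ResidueField A) ∧ IsField Λ ∧ IsField Λ') ∨
      (¬ CharZero (ResidueField A) ∧ CAlg.IsCohenRing Λ ∧ CAlg.IsCohenRing Λ') := by
    rcases hΛ with ⟨h1, h2⟩ | ⟨h1, h2⟩
    · rcases hΛ' with ⟨h3, _⟩ | ⟨_, h4⟩
      · exact Or.inl ⟨h2, h1, h3⟩
      · exact absurd (hiff.1 h2) h4
    · rcases hΛ' with ⟨_, h4⟩ | ⟨h3, _⟩
      · exact absurd (hiff.2 h4) h2
      · exact Or.inr ⟨h2, h1, h3⟩
  have hΛc : IsField Λ ∨ CAlg.IsCohenRing Λ := hΛ.imp And.left And.left
  have hΛc' : IsField Λ' ∨ CAlg.IsCohenRing Λ' := hΛ'.imp And.left And.left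
  obtain ⟨n, b, hb⟩ := Submodule.fg_iff_exists_fin_generating_family.1 (IsNoetherian.noetherian (maximalIdeal A))
  obtain ⟨N, c, hc⟩ := Submodule.fg_iff_exists_fin_generating_family.1 (IsNoetherian.noetherian (maximalIdeal B))
  have hbm : ∀ i, b i ∈ maximalIdeal A := fun i => hb ▸ Submodule.subset_span ⟨i, rfl⟩
  letI : Algebra Λ A := σA.toAlgebra
  letI : Algebra Λ' B := σB.toAlgebra
  obtain ⟨ρ, hρ⟩ := PSLib.exists_algHom (R := Λ) (maximalIdeal A) b hbm
  let d : Fin (n + N) → B := Fin.append (fun i => algebraMap A B (b i)) c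
  have hdm : ∀ i, d i ∈ maximalIdeal B := fun i => by
    induction i using Fin.addCases with
    | left i => simpa [d] using map_nonunit (algebraMap A B) _ (hbm i)
    | right i => simpa [d] using (hc ▸ Submodule.subset_span ⟨i, rfl⟩ : c i ∈ maximalIdeal B)
  obtain ⟨σ, hσ⟩ := PSLib.exists_algHom (R := Λ') (maximalIdeal B) d hdm
  have hρs : Function.Surjective ρ := by
    have hmap : (PSLib.vars n Λ).map ρ.toRingHom = maximalIdeal A := by
      rw [PSLib.vars, Ideal.map_span, ← Set.range_comp]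
      exact (congrArg (fun t => Ideal.span (Set.range t)) (funext fun i => hρ i)).trans hb
    refine PSLib.surjective_of_first_order ρ.toRingHom (I := PSLib.vars n Λ) (J := maximalIdeal A)
      (IsNoetherian.noetherian _) (IsAdicComplete.le_jacobson_bot _) hmap.le (le_sup_of_le_left hmap.ge) fun r => ?_
    obtain ⟨e, he⟩ := hσA' (residue A r)
    refine ⟨algebraMap Λ _ e, ?_⟩
    rw [← residue_eq_zero_iff, map_sub, sub_eq_zero]
    show residue A r = residue A (ρ (algebraMap Λ _ e))
    rw [ρ.commutes]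
    exact he.symm
  have hmapB : (PSLib.vars (n + N) Λ').map σ.toRingHom = maximalIdeal B := by
    refine le_antisymm ?_ ?_
    · rw [PSLib.vars, Ideal.map_span, Ideal.span_le]
      rintro _ ⟨_, ⟨i, rfl⟩, rfl⟩
      exact (hσ i).symm ▸ hdm i
    · rw [← hc, ← Ideal.span]
      refine Ideal.span_le.2 ?_
      rintro _ ⟨i, rfl⟩
      have : c i = σ (MvPowerSeries.X (Fin.natAdd n i)) := by rw [hσ]; simp [d]
      rw [this]
      exact Ideal.mem_map_of_mem σ.toRingHom (Ideal.subset_span ⟨_, rfl⟩)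
  have hσs : Function.Surjective σ := by
    refine PSLib.surjective_of_first_order σ.toRingHom (I := PSLib.vars (n + N) Λ') (J := maximalIdeal B)
      (IsNoetherian.noetherian _) (IsAdicComplete.le_jacobson_bot _) hmapB.le (le_sup_of_le_left hmapB.ge) fun r => ?_
    obtain ⟨e, he⟩ := hσB' (residue B r)
    refine ⟨algebraMap Λ' _ e, ?_⟩
    rw [← residue_eq_zero_iff, map_sub, sub_eq_zero]
    show residue B r = residue B (σ (algebraMap Λ' _ e))
    rw [σ.commutes]
    exact he.symm
  obtain ⟨hNS, hSreg, hScomp⟩ := CohenLib.isRegular_complete_mvPowerSeries hΛc' (n + N)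
  obtain ⟨hNR, hRreg, hRcomp⟩ := CohenLib.isRegular_complete_mvPowerSeries hΛc n
  haveI := hSreg
  haveI := hScomp
  haveI := hRreg
  let e := RingHom.quotientKerEquivOfSurjective (f := σ.toRingHom) hσs
  have hJ : RingHom.ker σ.toRingHom ≠ ⊤ := RingHom.ker_ne_top _
  haveI : IsLocalHom σ.toRingHom := IsLocalHom.of_surjective _ hσs
  have hW : EGA41.IsCohenRingEGA Λ := by
    rcases hΛ with ⟨h1, h2⟩ | ⟨h1, _⟩
    · refine Or.inl ⟨h1, ?_⟩
      exact RingHom.charZero ((residue A).comp σA)
    · exact Or.inr h1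
  let u : Λ →+* MvPowerSeries (Fin (n + N)) Λ' ⧸ RingHom.ker σ.toRingHom :=
    e.symm.toRingHom.comp ((algebraMap A B).comp σA)
  have hu : (maximalIdeal Λ).map u ≤
      (maximalIdeal (MvPowerSeries (Fin (n + N)) Λ')).map (Ideal.Quotient.mk (RingHom.ker σ.toRingHom)) := by
    refine Ideal.map_le_iff_le_comap.2 fun x hx => ?_
    have hxB : algebraMap A B (σA x) ∈ maximalIdeal B := map_nonunit _ _ (hσA (Ideal.mem_map_of_mem σA hx))
    obtain ⟨y, hy⟩ := hσs (algebraMap A B (σA x))
    have hym : y ∈ maximalIdeal (MvPowerSeries (Fin (n + N)) Λ') := by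
      rw [mem_maximalIdeal, mem_nonunits_iff]
      intro hu'
      exact (mem_maximalIdeal _).1 hxB (hy ▸ hu'.map σ)
    rw [Ideal.mem_comap]
    have : u x = Ideal.Quotient.mk _ y := by
      show e.symm (algebraMap A B (σA x)) = _
      rw [RingEquiv.symm_apply_eq]
      exact hy.symm
    rw [this]
    exact Ideal.mem_map_of_mem _ hym
  obtain ⟨v, hvm, hv⟩ := Cohen4.exists_lift hW (RingHom.ker σ.toRingHom) hJ u hu
  letI : Algebra Λ (MvPowerSeries (Fin (n + N)) Λ') := v.toAlgebra
  have hXm : ∀ i : Fin (n + N), MvPowerSeries.X i ∈ maximalIdeal (MvPowerSeries (Fin (n + N)) Λ') := fun i => by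
    rw [CohenLib.mem_maximalIdeal_mvPowerSeries_iff]; simp
  obtain ⟨τ, hτ⟩ := PSLib.exists_algHom (R := Λ) (maximalIdeal (MvPowerSeries (Fin (n + N)) Λ'))
    (fun i : Fin n => MvPowerSeries.X (Fin.castAdd N i)) fun i => hXm _
  letI : Algebra Λ B := ((algebraMap A B).comp σA).toAlgebra
  have hcommv : ∀ x, σ (v x) = algebraMap A B (σA x) := fun x => by
    have h1 : Ideal.Quotient.mk _ (v x) = u x := RingHom.congr_fun hv x
    have h2 := congrArg e h1
    have h3 : e (u x) = algebraMap A B (σA x) := e.apply_symm_apply _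
    rw [h3] at h2
    exact h2
  let f1 : MvPowerSeries (Fin n) Λ →ₐ[Λ] B :=
    { σ.toRingHom.comp τ.toRingHom with
      commutes' := fun x => by
        show σ (τ (algebraMap Λ _ x)) = _
        rw [τ.commutes]
        exact hcommv x }
  let f2 : MvPowerSeries (Fin n) Λ →ₐ[Λ] B :=
    { (algebraMap A B).comp ρ.toRingHom with
      commutes' := fun x => by
        show algebraMap A B (ρ (algebraMap Λ _ x)) = _
        rw [ρ.commutes]
        rfl }
  have hf12 : f1 = f2 := PSLib.algHom_ext (I := maximalIdeal B) f1 f2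
    (fun i => by
      show σ (τ (MvPowerSeries.X i)) ∈ _
      rw [hτ, hσ]
      exact hdm _)
    (fun i => by
      show σ (τ (MvPowerSeries.X i)) = algebraMap A B (ρ (MvPowerSeries.X i))
      rw [hτ, hσ, hρ]
      simp [d])
  have hcomp : σ.toRingHom.comp τ.toRingHom = (algebraMap A B).comp ρ.toRingHom :=
    RingHom.ext fun x => AlgHom.congr_fun hf12 x
  -- flatness and regularity of the closed fibre
  letI : Algebra (MvPowerSeries (Fin n) Λ) (MvPowerSeries (Fin (n + N)) Λ') := τ.toRingHom.toAlgebra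
  have hmτ : (maximalIdeal (MvPowerSeries (Fin n) Λ)).map τ.toRingHom ≤
      maximalIdeal (MvPowerSeries (Fin (n + N)) Λ') := by
    refine Ideal.map_le_iff_le_comap.2 fun f hf => ?_
    have e1 : f - MvPowerSeries.C (MvPowerSeries.constantCoeff f) ∈ PSLib.vars n Λ :=
      PSLib.mem_vars_iff.2 (by simp)
    have e2 : (PSLib.vars n Λ).map τ.toRingHom ≤ maximalIdeal _ := by
      rw [PSLib.vars, Ideal.map_span, Ideal.span_le]
      rintro _ ⟨_, ⟨i, rfl⟩, rfl⟩
      exact (hτ i).symm ▸ hXm _
    rw [CohenLib.mem_maximalIdeal_mvPowerSeries_iff] at hf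
    have e3 : τ (MvPowerSeries.C (MvPowerSeries.constantCoeff f)) ∈ maximalIdeal _ := by
      rw [show (MvPowerSeries.C (MvPowerSeries.constantCoeff f) : MvPowerSeries (Fin n) Λ) =
        algebraMap Λ _ (MvPowerSeries.constantCoeff f) from rfl, τ.commutes]
      exact hvm (Ideal.mem_map_of_mem v hf)
    have := add_mem (e2 (Ideal.mem_map_of_mem _ e1)) e3
    rw [Ideal.mem_comap]
    simpa using this
  haveI : IsLocalHom (algebraMap (MvPowerSeries (Fin n) Λ) (MvPowerSeries (Fin (n + N)) Λ')) :=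
    ((local_hom_TFAE _).out 0 2).2 hmτ
  haveI : Nontrivial (MvPowerSeries (Fin (n + N)) Λ' ⧸ (maximalIdeal (MvPowerSeries (Fin n) Λ)).map
      (algebraMap (MvPowerSeries (Fin n) Λ) (MvPowerSeries (Fin (n + N)) Λ'))) :=
    Ideal.Quotient.nontrivial_iff.2 fun h => (maximalIdeal.isMaximal (MvPowerSeries (Fin (n + N)) Λ')).ne_top
      (top_le_iff.1 (h.ge.trans hmτ))
  haveI := IsLocalRing.of_surjective' (Ideal.Quotient.mk ((maximalIdeal (MvPowerSeries (Fin n) Λ)).map
      (algebraMap (MvPowerSeries (Fin n) Λ) (MvPowerSeries (Fin (n + N)) Λ')))) Ideal.Quotient.mk_surjective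
  set Fb := MvPowerSeries (Fin (n + N)) Λ' ⧸ (maximalIdeal (MvPowerSeries (Fin n) Λ)).map
      (algebraMap (MvPowerSeries (Fin n) Λ) (MvPowerSeries (Fin (n + N)) Λ'))
  have hmFb : maximalIdeal Fb = Ideal.span (Set.range fun i : Fin N =>
      (Ideal.Quotient.mk _ (MvPowerSeries.X (Fin.natAdd n i)) : Fb)) := by
    refine le_antisymm ?_ (Ideal.span_le.2 ?_)
    · rw [← Cohen4.maximalIdeal_fibre, Ideal.map_le_iff_le_comap]
      intro f hf
      rw [CohenLib.mem_maximalIdeal_mvPowerSeries_iff] at hf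
      have e1 : f - MvPowerSeries.C (MvPowerSeries.constantCoeff f) ∈ PSLib.vars (n + N) Λ' :=
        PSLib.mem_vars_iff.2 (by simp)
      have e2 : PSLib.vars (n + N) Λ' ≤ (Ideal.span (Set.range fun i : Fin N =>
          (Ideal.Quotient.mk _ (MvPowerSeries.X (Fin.natAdd n i)) : Fb))).comap (Ideal.Quotient.mk _) := by
        rw [PSLib.vars, Ideal.span_le]
        rintro _ ⟨i, rfl⟩
        induction i using Fin.addCases with
        | left i =>
          rw [SetLike.mem_coe, Ideal.mem_comap, Ideal.Quotient.eq_zero_iff_mem.2]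
          · exact zero_mem _
          · rw [← hτ i]
            refine Ideal.mem_map_of_mem τ.toRingHom ?_
            rw [CohenLib.mem_maximalIdeal_mvPowerSeries_iff]; simp
        | right i => exact Ideal.subset_span ⟨i, rfl⟩
      have e3 : (Ideal.Quotient.mk _ (MvPowerSeries.C (MvPowerSeries.constantCoeff f)) : Fb) = 0 := by
        rcases hΛ' with ⟨hF, _⟩ | ⟨hC, _⟩
        · rw [IsLocalRing.isField_iff_maximalIdeal_eq.1 hF, Ideal.mem_bot] at hf
          rw [hf]; simp
        · obtain ⟨_, _, _, q, hq, hm⟩ := hC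
          rw [hm, Ideal.mem_span_singleton'] at hf
          obtain ⟨g, hg⟩ := hf
          rw [Ideal.Quotient.eq_zero_iff_mem, ← hg, map_mul, map_natCast]
          refine Ideal.mul_mem_left _ _ ?_
          -- the residue characteristic lies in the maximal ideal of the source
          have hqB : (q : B) ∈ maximalIdeal B := by
            have h1 := hσB (Ideal.mem_map_of_mem σB (hm ▸ Ideal.mem_span_singleton_self (q : Λ')))
            rwa [map_natCast] at h1
          have hqA : (q : A) ∈ maximalIdeal A := by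
            rw [mem_maximalIdeal, mem_nonunits_iff]
            intro h
            have h1 := h.map (algebraMap A B)
            rw [map_natCast] at h1
            exact (mem_maximalIdeal _).1 hqB h1
          have hqR : (q : MvPowerSeries (Fin n) Λ) ∈ maximalIdeal (MvPowerSeries (Fin n) Λ) := by
            rw [mem_maximalIdeal, mem_nonunits_iff]
            intro h
            have h1 := h.map ρ
            rw [map_natCast] at h1
            exact (mem_maximalIdeal _).1 hqA h1
          have := Ideal.mem_map_of_mem (algebraMap (MvPowerSeries (Fin n) Λ) (MvPowerSeries (Fin (n + N)) Λ')) hqR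
          rwa [map_natCast] at this
      have := e2 e1
      rw [Ideal.mem_comap, map_sub, e3, sub_zero] at this
      exact this
    · rintro _ ⟨i, rfl⟩
      rw [← Cohen4.maximalIdeal_fibre]
      exact Ideal.mem_map_of_mem _ (hXm _)
  have hspanFb : (maximalIdeal Fb).spanFinrank ≤ N := by
    rw [hmFb]
    refine (Submodule.spanFinrank_span_le_ncard_of_finite (Set.finite_range _)).trans ?_
    rw [← Set.image_univ]
    exact (Set.ncard_image_le).trans (by simp)
  obtain ⟨eΛ, heΛ⟩ := dim_mvPowerSeries hΛc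
  obtain ⟨eΛ', heΛ'⟩ := dim_mvPowerSeries hΛc'
  have hee : eΛ = eΛ' := by
    rcases hcase with ⟨_, h1, h2⟩ | ⟨_, h1, h2⟩
    · rw [(heΛ 0).2.1 h1, (heΛ' 0).2.1 h2]
    · obtain ⟨_, _, _⟩ := h1
      obtain ⟨_, _, _⟩ := h2
      rw [(heΛ 0).2.2 (IsDiscreteValuationRing.not_isField Λ), (heΛ' 0).2.2 (IsDiscreteValuationRing.not_isField Λ')]
  have hdle := Cohen4.dim_le (A := MvPowerSeries (Fin n) Λ) (B := MvPowerSeries (Fin (n + N)) Λ')
  rw [(heΛ n).1, (heΛ' (n + N)).1] at hdle
  have hupper : ringKrullDim Fb ≤ (N : ℕ) :=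
    (ringKrullDim_le_spanFinrank_maximalIdeal _).trans (Nat.cast_le.2 hspanFb)
  have hdimFb : ringKrullDim Fb = (N : ℕ) := by
    refine le_antisymm hupper ?_
    obtain ⟨a, -, -, hda, -⟩ := CohenLib.exists_fin_sop Fb
    rw [hda, ← Nat.cast_add, Nat.cast_le] at hdle
    rw [hda, Nat.cast_le]
    omega
  haveI hFbreg : IsRegularLocalRing Fb := IsRegularLocalRing.of_spanFinrank_maximalIdeal_le Fb (by
    rw [hdimFb]; exact Nat.cast_le.2 hspanFb)
  have hcond : IsRegularLocalRing (MvPowerSeries (Fin n) Λ) ∧ IsRegularLocalRing Fb ∧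
      ringKrullDim (MvPowerSeries (Fin (n + N)) Λ') = ringKrullDim (MvPowerSeries (Fin n) Λ) + ringKrullDim Fb := by
    refine ⟨hRreg, hFbreg, ?_⟩
    rw [(heΛ n).1, (heΛ' (n + N)).1, hdimFb, hee, ← Nat.cast_add]
    congr 1
    omega
  have hflat : IsRegularLocalRing (MvPowerSeries (Fin (n + N)) Λ') ∧ IsRegularLocalRing Fb ∧
      Module.Flat (MvPowerSeries (Fin n) Λ) (MvPowerSeries (Fin (n + N)) Λ') :=
    ((Cohen4.regularHom_tfae (A := MvPowerSeries (Fin n) Λ)
      (B := MvPowerSeries (Fin (n + N)) Λ')).out 3 1).1 hcond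
  refine ⟨Λ, Λ', inferInstance, inferInstance, inferInstance, n, n + N, ρ.toRingHom, σ.toRingHom, τ.toRingHom,
    hcase, hρs, hσs, hcomp, hflat.2.2, RegLoc6.isRegularRing_of_isRegularLocalRing Fb⟩

end Groth.Agent.H1CohenFac
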